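import Groth.Prelude.Def_MoreMor
import Groth.Agent.Nagata.ProjBundles
import Groth.Agent.ResDesc.AmpleFam
import Groth.Agent.ResDesc.CartierFam
import Groth.Agent.S17886
import Groth.Agent.BlowAmp.Ample
import Groth.Agent.LocImmBlow.Basic

/-!
# Completely decomposed proper covers with ample families
-/

set_option autoImplicit false
set_option linter.style.haveILetI false
set_option backward.isDefEq.respectTransparency false
set_option backward.isDefEq.respectTransparency.types false

universe u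

open CategoryTheory CategoryTheory.Limits AlgebraicGeometry TopologicalSpace

noncomputable section

namespace Groth.Agent.AmpleCover

variable {X Y : Scheme.{u}}

/-- A residue-field section gives a point with bijective residue map. -/
theorem exists_point_of_lift (f : Y ⟶ X) {x : X} (z : Spec (X.residueField x) ⟶ Y)
    (hz : z ≫ f = X.fromSpecResidueField x) : ∃ y : Y, f y = x ∧ Function.Bijective (f.residueFieldMap y) := by
  let E := Scheme.SpecToEquivOfField (X.residueField x) X
  let P : Σ x' : X, X.residueField x' ⟶ X.residueField x := ⟨x, 𝟙 _⟩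
  obtain ⟨⟨y, φ⟩, rfl⟩ := (Scheme.SpecToEquivOfField (X.residueField x) Y).symm.surjective z
  let Q : Σ x' : X, X.residueField x' ⟶ X.residueField x := ⟨f y, f.residueFieldMap y ≫ φ⟩
  have h0 : E.symm P = X.fromSpecResidueField x := by
    show Spec.map (𝟙 _) ≫ X.fromSpecResidueField x = _
    rw [Spec.map_id, Category.id_comp]
  have h1 : E.symm Q = X.fromSpecResidueField x := by
    rw [← hz]
    show Spec.map (f.residueFieldMap y ≫ φ) ≫ X.fromSpecResidueField (f y) =
      (Spec.map φ ≫ Y.fromSpecResidueField y) ≫ f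
    rw [Spec.map_comp, Category.assoc, Category.assoc, Scheme.Hom.SpecMap_residueFieldMap_fromSpecResidueField]
  obtain ⟨e, he⟩ := Scheme.SpecToEquivOfField_eq_iff.1 (E.symm.injective (h1.trans h0.symm))
  refine ⟨y, e, ?_⟩
  have hcomp : Function.Bijective (f.residueFieldMap y ≫ φ) := by
    rw [show f.residueFieldMap y ≫ φ = _ from he]
    exact (Category.comp_id (X.residueFieldCongr e).hom).symm ▸ ConcreteCategory.bijective_of_isIso _
  have hφ : Function.Injective φ := φ.hom.injective
  refine ⟨(f.residueFieldMap y).hom.injective, fun b => ?_⟩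
  obtain ⟨a, ha⟩ := hcomp.2 (φ b)
  exact ⟨a, hφ (by rw [← CommRingCat.comp_apply]; exact ha)⟩

theorem bijective_residueFieldMap_of_isClosedImmersion (f : Y ⟶ X) [IsClosedImmersion f] (y : Y) :
    Function.Bijective (f.residueFieldMap y) := by
  refine ⟨(f.residueFieldMap y).hom.injective, fun b => ?_⟩
  obtain ⟨c, rfl⟩ := IsLocalRing.residue_surjective (R := Y.presheaf.stalk y) b
  obtain ⟨a, rfl⟩ := f.stalkMap_surjective y c
  refine ⟨X.residue (f y) a, ?_⟩
  rw [← CommRingCat.comp_apply, Scheme.residue_residueFieldMap]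
  rfl

theorem bijective_residueFieldMap_comp {Z : Scheme.{u}} (g : Z ⟶ Y) (f : Y ⟶ X) (z : Z)
    (hg : Function.Bijective (g.residueFieldMap z)) (hf : Function.Bijective (f.residueFieldMap (g z))) :
    Function.Bijective ((g ≫ f).residueFieldMap z) := by
  rw [Scheme.residueFieldMap_comp]
  exact hg.comp hf

/-- A Noetherian scheme has a modification with an ample family, isomorphic over a dense open. -/
theorem exists_modification [IsNoetherian X] :
    ∃ (Y : Scheme.{u}) (b : Y ⟶ X) (W : X.Opens), IsProper b ∧ MoreMor.HasAmpleFamily Y ∧ Dense (W : Set X) ∧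
      IsIso (b ∣_ W) := by
  classical
  obtain ⟨m, U, hU, hUi⟩ := S17886.result (𝟙 X)
  let I : Fin m → X.IdealSheafData := fun i =>
    Scheme.IdealSheafData.vanishingIdeal ⟨((U i : Set X))ᶜ, (U i).2.isClosed_compl⟩
  have hI : ∀ i, ((I i).support : Set X) = (U i : Set X)ᶜ := fun i => by simp [I]
  let K := ∏ i, I i
  have hdense : ∀ s : Finset (Fin m), Dense ((∏ i ∈ s, I i).support : Set X)ᶜ := by
    intro s
    induction s using Finset.induction with
    | empty => simp [Scheme.IdealSheafData.one_eq_top]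
    | insert a s ha ih =>
      rw [Finset.prod_insert ha, Scheme.IdealSheafData.support_mul, Closeds.coe_sup, Set.compl_union, hI, compl_compl]
      exact (hUi a).2.1.inter_of_isOpen_left ih (U a).2
  obtain ⟨Y, b, hb⟩ := BlowUpExist.exists_isBlowUp X K
  haveI := LocImmBlow.isProper_blowUp hb
  refine ⟨Y, b, K.support.compl, inferInstance, ?_, hdense Finset.univ, BlowUpLib.isIso_restrict hb⟩
  have hcart : ∀ i, BlowUp.IsEffCartierIdeal ((I i).comap b) := fun i => by
    have h := hb.1
    rw [show K = I i * ∏ j ∈ Finset.univ.erase i, I j from (Finset.mul_prod_erase _ _ (Finset.mem_univ i)).symm,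
      BlowUpLib.comap_mul] at h
    exact BlowUpLib.cartier_of_mul_left h
  have hpre : ∀ i, ((I i).comap b).support.compl = b ⁻¹ᵁ U i := fun i => by
    ext y
    show y ∉ (((I i).comap b).support : Set Y) ↔ b y ∈ (U i : Set X)
    rw [Scheme.IdealSheafData.support_comap, Closeds.coe_preimage, Set.mem_preimage, hI, Set.mem_compl_iff, not_not]
  refine Groth.Agent.ResDesc.hasAmpleFamily_of_cartier_cover (fun i => (I i).comap b) hcart ?_
    (fun _ => ClSub.idealMod (K.comap b)) (fun _ => (Groth.Agent.S8914.result _).mpr hb.1) fun i => ?_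
  · refine Set.eq_empty_of_forall_notMem fun y hy => ?_
    obtain ⟨i, hi⟩ := Opens.mem_iSup.1 (show b y ∈ ⨆ i, U i from hU ▸ trivial)
    have hyi := Set.mem_iInter.1 hy i
    exact ((hpre i).ge hi) hyi
  · rw [hpre i]
    exact BlowAmp.isAmple_restrict_exceptional hb (RZUnion.isFiniteType_of_isLocallyNoetherian _) ⟨U i, (hUi i).1⟩

/-- Ample families on a disjoint union. -/
theorem hasAmpleFamily_clopen {Z : Scheme.{u}} [IsNoetherian Z] (C C' : Z.Opens) (hcov : ∀ z, z ∈ C ∨ z ∈ C')
    (hd : ∀ z, z ∈ C → z ∈ C' → False) (h : MoreMor.HasAmpleFamily C.toScheme) (h' : MoreMor.HasAmpleFamily C'.toScheme) :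
    MoreMor.HasAmpleFamily Z := by
  have key : ∀ (C C' : Z.Opens), (∀ z, z ∈ C ∨ z ∈ C') → (∀ z, z ∈ C → z ∈ C' → False) →
      MoreMor.HasAmpleFamily C.toScheme → ∀ z ∈ C,
      ∃ (L : Z.Modules) (n : ℕ) (s : Coh.structureModule Z ⟶ CohB1.tensorPow L n),
        PicF.IsInvertible L ∧ 1 ≤ n ∧ z ∈ CohB1.genLocus (CohB1.tensorPow L n) s ∧
          IsAffineOpen (CohB1.genLocus (CohB1.tensorPow L n) s) := by
    intro C C' hcov hd h z hz
    obtain ⟨L, n, s, hL, hn, hzs, hs⟩ := h.2 ⟨z, hz⟩
    obtain ⟨M, -, ⟨c⟩, ⟨c'⟩⟩ := Nagata.exists_glue_modules C.ι C'.ι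
      (fun w => by rw [Scheme.Opens.range_ι, Scheme.Opens.range_ι]; exact hcov w)
      (fun a b hab => hd a.1 a.2 ((show a.1 = b.1 from hab) ▸ b.2)) L (Coh.structureModule C'.toScheme)
      (Groth.Agent.ResDesc.isFinLocFree_of_isInvertible hL)
      (Groth.Agent.ResDesc.isFinLocFree_of_isInvertible TMul.isInvertible_structureModule)
    have hM : PicF.IsInvertible M := Nagata.isInvertible_of_cover M fun w => (hcov w).elim
      (fun hw => ⟨_, C.ι, inferInstance, ⟨⟨w, hw⟩, rfl⟩, Nagata.isInvertible_of_iso' c.symm hL⟩)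
      fun hw => ⟨_, C'.ι, inferInstance, ⟨⟨w, hw⟩, rfl⟩,
        Nagata.isInvertible_of_iso' c'.symm TMul.isInvertible_structureModule⟩
    obtain ⟨a, ha⟩ := Nagata.exists_basicOpen_eq_clopen C C' hcov hd
    obtain ⟨e₁⟩ := TMul.nonempty_restrictPowIso C.ι M n
    obtain ⟨e₂⟩ := TMul.nonempty_powCongr ((Scheme.Modules.restrictFunctorIsoPullback C.ι).app M ≪≫ c) n
    let φ := e₂.symm ≪≫ e₁
    obtain ⟨t, ht⟩ := TMul.exists_genLocus_extend (TMul.isInvertible_tensorPow hM n) a ha (s ≫ φ.hom)
    rw [TMul.genLocus_comp] at ht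
    exact ⟨M, n, t, hM, hn, ht ▸ ⟨⟨z, hz⟩, hzs, rfl⟩, ht ▸ hs.image_of_isOpenImmersion _⟩
  refine ⟨inferInstance, fun z => (hcov z).elim (key C C' hcov hd h z) ?_⟩
  exact key C' C (fun w => (hcov w).symm) (fun w h1 h2 => hd w h2 h1) h' z

/-- Residually surjective proper covers with an ample family, Noetherian case. -/
theorem exists_cover_closeds [IsNoetherian X] (C : Closeds X) :
    ∃ (Y : Scheme.{u}) (f : Y ⟶ X), IsProper f ∧ MoreMor.HasAmpleFamily Y ∧
      ∀ x ∈ (C : Set X), ∃ y : Y, f y = x ∧ Function.Bijective (f.residueFieldMap y) := by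
  induction C using WellFoundedLT.induction with
  | ind C ih =>
    by_cases hC : (C : Set X) = ∅
    · refine ⟨(∅ : Scheme.{u}), Scheme.emptyTo X, inferInstance, ⟨inferInstance, fun y => isEmptyElim y⟩, fun x hx => ?_⟩
      rw [hC] at hx
      exact hx.elim
    let I := Scheme.IdealSheafData.vanishingIdeal C
    have hI : Set.range I.subschemeι = (C : Set X) := by
      rw [Scheme.IdealSheafData.range_subschemeι]; simp [I]
    haveI : IsNoetherian I.subscheme := LocImmBlow.isNoetherian_of_ft I.subschemeι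
    obtain ⟨Y₁, b, W, _, hY₁, hWd, _⟩ := exists_modification (X := I.subscheme)
    let C' : Closeds X := ⟨I.subschemeι '' (W : Set I.subscheme)ᶜ,
      I.subschemeι.isClosedEmbedding.isClosedMap _ W.2.isClosed_compl⟩
    have hlt : C' < C := by
      refine lt_of_le_of_ne (fun x hx => ?_) fun e => ?_
      · obtain ⟨a, -, rfl⟩ := hx
        exact hI.subset ⟨a, rfl⟩
      · obtain ⟨c, hc⟩ := Set.nonempty_iff_ne_empty.2 hC
        obtain ⟨a, rfl⟩ := hI.superset hc
        haveI : Nonempty I.subscheme := ⟨a⟩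
        obtain ⟨w, hw⟩ := hWd.nonempty
        obtain ⟨w', hw', he⟩ := (congrArg (fun D : Closeds X => (D : Set X)) e).ge (hI.subset ⟨w, rfl⟩)
        exact hw' (I.subschemeι.isClosedEmbedding.injective he ▸ hw)
    obtain ⟨Y₂, f₂, _, hY₂, hpts⟩ := ih C' hlt
    let f₁ := b ≫ I.subschemeι
    let F := coprod.desc f₁ f₂
    haveI : IsProper F := by
      haveI : IsProper (coprod.map f₁ f₂) := IsZariskiLocalAtTarget.coprodMap _ _ inferInstance ‹IsProper f₂›
      rw [show F = coprod.map f₁ f₂ ≫ coprod.desc (𝟙 X) (𝟙 X) by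
        rw [coprod.map_desc, Category.comp_id, Category.comp_id]]
      infer_instance
    haveI : IsNoetherian (Y₁ ⨿ Y₂ : Scheme.{u}) := LocImmBlow.isNoetherian_of_ft F
    refine ⟨_, F, inferInstance, hasAmpleFamily_clopen (coprod.inl : Y₁ ⟶ Y₁ ⨿ Y₂).opensRange
      (coprod.inr : Y₂ ⟶ Y₁ ⨿ Y₂).opensRange (fun z => (isCompl_range_inl_inr Y₁ Y₂).sup_eq_top.ge (Set.mem_univ z))
      (fun z ⟨a, ha⟩ ⟨c, hc⟩ => inl_ne_inr Y₁ Y₂ a c (ha.trans hc.symm))
      (Groth.Agent.ResDesc.hasAmpleFamily_of_quasiAffine_over (coprod.inl : Y₁ ⟶ Y₁ ⨿ Y₂).isoOpensRange.inv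
        (Or.inl inferInstance) hY₁)
      (Groth.Agent.ResDesc.hasAmpleFamily_of_quasiAffine_over (coprod.inr : Y₂ ⟶ Y₁ ⨿ Y₂).isoOpensRange.inv
        (Or.inl inferInstance) hY₂), fun x hx => ?_⟩
    obtain ⟨a, rfl⟩ := hI.superset hx
    by_cases ha : a ∈ W
    · obtain ⟨v, hv⟩ := (b ∣_ W).surjective ⟨a, ha⟩
      rw [morphismRestrict_base] at hv
      have hv' : b v.1 = a := congrArg Subtype.val hv
      refine ⟨(coprod.inl : Y₁ ⟶ Y₁ ⨿ Y₂) v.1, ?_, ?_⟩
      · rw [← Scheme.Hom.comp_apply, coprod.inl_desc, Scheme.Hom.comp_apply, hv']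
      · have h1 : Function.Bijective (b.residueFieldMap v.1) := by
          have e := morphismRestrict_ι b W
          have h2 : Function.Bijective ((b ∣_ W ≫ W.ι).residueFieldMap v) :=
            ConcreteCategory.bijective_of_isIso _
          rw [Scheme.Hom.residueFieldMap_congr e v, Scheme.residueFieldMap_comp] at h2
          have hc := ConcreteCategory.bijective_of_isIso ((b ⁻¹ᵁ W).ι.residueFieldMap v)
          have h3 := ConcreteCategory.bijective_of_isIso
            (Scheme.residueFieldCongr (X := I.subscheme) (congr($e v) : (b ∣_ W ≫ W.ι) v = _)).hom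
          simp only [CommRingCat.hom_comp, ConcreteCategory.comp_apply] at h2
          exact (Function.Bijective.of_comp_iff' hc _).1 ((Function.Bijective.of_comp_iff _ h3).1 h2)
        have h4 : Function.Bijective (f₁.residueFieldMap v.1) :=
          bijective_residueFieldMap_comp b I.subschemeι _ h1 (bijective_residueFieldMap_of_isClosedImmersion _ _)
        have h5 : Function.Bijective (((coprod.inl : Y₁ ⟶ Y₁ ⨿ Y₂) ≫ F).residueFieldMap v.1) := by
          rw [Scheme.Hom.residueFieldMap_congr (coprod.inl_desc f₁ f₂) v.1]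
          exact h4.comp (ConcreteCategory.bijective_of_isIso _)
        rw [Scheme.residueFieldMap_comp] at h5
        exact (Function.Bijective.of_comp_iff' (ConcreteCategory.bijective_of_isIso
          ((coprod.inl : Y₁ ⟶ Y₁ ⨿ Y₂).residueFieldMap v.1)) _).1 h5
    · obtain ⟨y, hy, hby⟩ := hpts _ ⟨a, ha, rfl⟩
      refine ⟨(coprod.inr : Y₂ ⟶ Y₁ ⨿ Y₂) y, by rw [← Scheme.Hom.comp_apply, coprod.inr_desc, hy], ?_⟩
      have h5 : Function.Bijective (((coprod.inr : Y₂ ⟶ Y₁ ⨿ Y₂) ≫ F).residueFieldMap y) := by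
        rw [Scheme.Hom.residueFieldMap_congr (coprod.inr_desc f₁ f₂) y]
        exact hby.comp (ConcreteCategory.bijective_of_isIso _)
      rw [Scheme.residueFieldMap_comp] at h5
      exact (Function.Bijective.of_comp_iff' (ConcreteCategory.bijective_of_isIso
        ((coprod.inr : Y₂ ⟶ Y₁ ⨿ Y₂).residueFieldMap y)) _).1 h5

end Groth.Agent.AmpleCover
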